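import Cfsg.Agent.H8.Mon.Sharp
import Cfsg.Agent.H573.Spor.MSeven
import Cfsg.Agent.H349.RM.Defs

/-!
# S3509, row M: centralizers of the elements of order 5 and 7 commuting with no involution (helper349)

* `n5` : order 5: `|C(x)| ≤ 3 ^ 3 * 5 ^ 8 * 7 ^ 2`;
* `seventeen` : an element of order 7 commuting with an element of order 17 commutes with an involution;
* `n7` : order 7: `|C(x)| ≤ 3 ^ 3 * 5 ^ 2 * 7 ^ 5`.
-/

set_option autoImplicit false
set_option maxRecDepth 100000
open Cfsg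

namespace Cfsg.Agent.H349.RM

open Subgroup Cfsg.Agent.LThreeMB Cfsg.Agent.H8.Mon
open Cfsg.Agent.BpSpor.MBigModel (MG zz card_M card_cent_z)
open Cfsg.Agent.H199.NSmAbs (exists_common)
open Cfsg.Agent.H199.AbTool (dvd_of_not_dvd dvd_of_not_pow)

/-- a common involution from a centralizer of even order -/
theorem evI_of_even {x : MG} (h : 2 ∣ Nat.card ↥(centralizer ({x} : Set MG))) : EvI x := by
  have hfin : Finite MG := BpSpor.MBigModel.finite
  by_contra hno
  exact odd_of hno h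

/-- no element of order `r` commutes with `x` -/
theorem no_of {r : ℕ} (hr : r.Prime) {x : MG} (h : ∀ y : MG, orderOf y = r → x * y = y * x → False) :
    ¬ r ∣ Nat.card ↥(centralizer ({x} : Set MG)) := by
  have hfin : Finite MG := BpSpor.MBigModel.finite
  have : Fact r.Prime := ⟨hr⟩
  intro h1
  obtain ⟨y, hy⟩ := exists_prime_orderOf_dvd_card' r h1
  exact h y (by rw [Subgroup.orderOf_coe, hy]) (mem_centralizer_singleton_iff.1 y.2).symm

/-- `¬ orderOf x ∣ |C(y)|` -/
theorem no_of' {r q : ℕ} (hr : r.Prime) (h : ∀ y : MG, orderOf y = r → ¬ q ∣ Nat.card ↥(centralizer ({y} : Set MG)))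
    {x : MG} (hx : orderOf x = q) : ¬ r ∣ Nat.card ↥(centralizer ({x} : Set MG)) :=
  no_of hr fun y hy hxy => h y hy (by rw [← hx]; exact dvd_cent hxy)

/-- **order 5, no involution** -/
theorem n5 (X : Exact) (c11 : ∀ y : MG, orderOf y = 11 → Nat.card ↥(centralizer ({y} : Set MG)) = 11 * 95040)
    (c13 : ∀ y : MG, orderOf y = 13 → ¬ 5 ∣ Nat.card ↥(centralizer ({y} : Set MG)))
    (i3 : ∀ x y : MG, orderOf x = 5 → orderOf y = 3 → EvI y → x * y = y * x → EvI x)
    (i7 : ∀ x y : MG, orderOf x = 5 → orderOf y = 7 → EvI y → x * y = y * x → EvI x)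
    (t4 : ∀ N : Subgroup MG, 3 ^ 4 ∣ Nat.card N → ∃ y ∈ N, orderOf y = 3 ∧ EvI y)
    (t7 : ∀ N : Subgroup MG, 7 ^ 3 ∣ Nat.card N → ∃ y ∈ N, orderOf y = 7 ∧ EvI y)
    {x : MG} (hx : orderOf x = 5) (hno : ¬ EvI x) :
    Nat.card ↥(centralizer ({x} : Set MG)) ≤ 520000000 := by
  have hfin : Finite MG := BpSpor.MBigModel.finite
  have hno' : NoInv x := hno
  set n := Nat.card ↥(centralizer ({x} : Set MG)) with hn
  have hn0 : n ≠ 0 := Nat.card_pos.ne'
  have h0 : n ∣ _ := (card_subgroup_dvd_card (centralizer ({x} : Set MG))).trans card_M'.dvd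
  have h1 := dvd_of_not_dvd Nat.prime_two (odd_of hno') h0
  have h2 := dvd_of_not_dvd (by norm_num) (H199.AbMon.five_not_dvd' (r := 17) (by simp) hx) h1
  have h3 := dvd_of_not_dvd (by norm_num) (r := 19) (fun h => by
    have : Fact (Nat.Prime 19) := ⟨by norm_num⟩
    obtain ⟨y, hy⟩ := exists_prime_orderOf_dvd_card' 19 h
    exact hno' (nineteen X.nineteen hx (y := y) (by rw [Subgroup.orderOf_coe, hy])
      (mem_centralizer_singleton_iff.1 y.2).symm)) h2
  have h4 := dvd_of_not_dvd (by norm_num) (H199.AbMon.five_not_dvd' (r := 23) (by simp) hx) h3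
  have h5 := dvd_of_not_dvd (by norm_num) (H199.AbMon.five_not_dvd' (r := 29) (by simp) hx) h4
  have h6 := dvd_of_not_dvd (by norm_num) (no_comm (by norm_num) (by norm_num) X.thirtyone hx) h5
  have h7 := dvd_of_not_dvd (by norm_num) (no_comm (by norm_num) (by norm_num) X.fortyone hx) h6
  have h8 := dvd_of_not_dvd (by norm_num) (H199.AbMon.five_not_dvd' (r := 47) (by simp) hx) h7
  have h9 := dvd_of_not_dvd (by norm_num) (H199.AbMon.five_not_dvd' (r := 59) (by simp) hx) h8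
  have h10 := dvd_of_not_dvd (by norm_num) (no_comm (by norm_num) (by norm_num) X.seventyone hx) h9
  have h11 := dvd_of_not_pow (k := 3) Nat.prime_three hn0 (fun h => by
    obtain ⟨y, hyN, hy, he⟩ := t4 _ h
    exact hno (i3 x y hx hy he (mem_centralizer_singleton_iff.1 hyN).symm)) h10
  have h12 : n ∣ 13 ^ 3 * (11 ^ 2 * (3 ^ 3 * (5 ^ 9 * 7 ^ 6))) := h11.trans (by norm_num)
  have h13 := dvd_of_not_dvd (by norm_num) (no_of' (by norm_num) c13 hx) h12
  have h14 := dvd_of_not_dvd (by norm_num) (r := 11) (no_of (by norm_num) (fun w hw hxw => by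
    obtain ⟨s, hs, hsw⟩ := evI_of_even (x := w) (by rw [c11 w hw]; norm_num)
    exact hno (five_inv hw hs hsw.symm hx hxw))) (h13.trans (by norm_num : (_ : ℕ) ∣ 11 ^ 2 * (3 ^ 3 * (5 ^ 9 * 7 ^ 6))))
  have h15 : n ∣ 7 ^ 6 * (3 ^ 3 * 5 ^ 9) := h14.trans (by norm_num)
  have h16 := dvd_of_not_pow (k := 2) (by norm_num) hn0 (fun h => by
    obtain ⟨y, hyN, hy, he⟩ := t7 _ h
    exact hno (i7 x y hx hy he (mem_centralizer_singleton_iff.1 hyN).symm)) h15
  have h17 : n ∣ 5 ^ 9 * (7 ^ 2 * 3 ^ 3) := h16.trans (by norm_num)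
  have h18 := dvd_of_not_pow (k := 8) Nat.prime_five hn0 (not_nine hx hno') h17
  exact (Nat.le_of_dvd (by norm_num) h18).trans (by norm_num)

/-- **No element of order 17 commutes with an element of order 7 with odd centralizer.** -/
theorem seventeen (h17 : ∀ y : MG, orderOf y = 17 → Nat.card ↥(centralizer ({y} : Set MG)) = 168 * 17) {x y : MG}
    (hx : orderOf x = 7) (hy : orderOf y = 17) (hxy : x * y = y * x) : EvI x := by
  have hfin : Finite MG := BpSpor.MBigModel.finite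
  have h2F : Fact (Nat.Prime 2) := ⟨Nat.prime_two⟩
  have h17F : Fact (Nat.Prime 17) := ⟨by norm_num⟩
  obtain ⟨a, ha, hHe⟩ := H573.Spor.Monster.exists_he
  have hca : Nat.card ↥(centralizer ({a} : Set MG)) = 7 * 4030387200 := by
    rw [H199.NSmMon.card_XX, ha, H573.Spor.Monster.card_He hHe]
  obtain ⟨b, hb⟩ := exists_prime_orderOf_dvd_card' (G := ↥(centralizer ({a} : Set MG))) 17 (by rw [hca]; norm_num)
  obtain ⟨s, hs⟩ := exists_prime_orderOf_dvd_card' (G := ↥(centralizer ({a} : Set MG))) 2 (by rw [hca]; norm_num)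
  have hbo : orderOf (b : MG) = 17 := by rw [Subgroup.orderOf_coe, hb]
  have hso : orderOf (s : MG) = 2 := by rw [Subgroup.orderOf_coe, hs]
  have hba : (b : MG) * a = a * b := mem_centralizer_singleton_iff.1 b.2
  have hsa : (s : MG) * a = a * s := mem_centralizer_singleton_iff.1 s.2
  obtain ⟨k, i, hi⟩ := CpAutON.Gen.conj_into (G := MG) (p := 17) (by rw [card_M]; norm_num) hy hbo
  have hi' : (b : MG) ^ i = k * y * k⁻¹ := hi
  have hio : orderOf ((b : MG) ^ i) = 17 := by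
    rw [hi', ← hy]
    exact MulEquiv.orderOf_eq (MulAut.conj k) _
  have hz : zpowers ((b : MG) ^ i) = zpowers (b : MG) := by
    apply Subgroup.eq_of_le_of_card_ge
    · rw [zpowers_le]; exact ⟨i, rfl⟩
    · rw [Nat.card_zpowers, Nat.card_zpowers, hio, hbo]
  obtain ⟨j, hj⟩ : (b : MG) ∈ zpowers ((b : MG) ^ i) := by rw [hz]; exact mem_zpowers _
  have hj' : ((b : MG) ^ i) ^ j = b := hj
  have hxb : (k * x * k⁻¹) * (b : MG) = b * (k * x * k⁻¹) := by
    rw [← hj']
    have h4 : Commute (k * x * k⁻¹) ((b : MG) ^ i) := by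
      rw [hi']
      show _ * _ = _ * _
      calc k * x * k⁻¹ * (k * y * k⁻¹) = k * (x * y) * k⁻¹ := by group
        _ = k * (y * x) * k⁻¹ := by rw [hxy]
        _ = _ := by group
    exact (h4.zpow_right j).eq
  have hxo : orderOf (k * x * k⁻¹) = 7 := by
    rw [← hx]
    exact MulEquiv.orderOf_eq (MulAut.conj k) _
  obtain ⟨d, hd, i2, hd2⟩ := MSevenT.conj_into (C := centralizer ({(b : MG)} : Set MG)) (T := zpowers a) (by
    rw [zpowers_le]
    exact mem_centralizer_singleton_iff.2 hba.symm) (p := 7) (k := 1) (by norm_num) (by rw [h17 _ hbo]; norm_num)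
    (by rw [Nat.card_zpowers, ha]; norm_num) hxo (mem_centralizer_singleton_iff.2 hxb)
  have hd2' : a ^ i2 = d * (k * x * k⁻¹) * d⁻¹ := hd2
  refine pull (c := (d * k)⁻¹) ⟨s, hso, ?_⟩
  have h5 : (d * k)⁻¹⁻¹ * x * (d * k)⁻¹ = a ^ i2 := by rw [hd2']; group
  rw [h5]
  exact ((show Commute (s : MG) a from hsa).zpow_right i2).eq

/-- **order 7, no involution** -/
theorem n7 (X : Exact) (c11 : ∀ y : MG, orderOf y = 11 → Nat.card ↥(centralizer ({y} : Set MG)) = 11 * 95040)
    (c13 : ∀ y : MG, orderOf y = 13 → ¬ 7 ∣ Nat.card ↥(centralizer ({y} : Set MG)))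
    (c17 : ∀ y : MG, orderOf y = 17 → Nat.card ↥(centralizer ({y} : Set MG)) = 168 * 17)
    (c29 : ∀ y : MG, orderOf y = 29 → ¬ 7 ∣ Nat.card ↥(centralizer ({y} : Set MG)))
    (i3 : ∀ x y : MG, orderOf x = 7 → orderOf y = 3 → EvI y → x * y = y * x → EvI x)
    (i5 : ∀ x y : MG, orderOf x = 7 → orderOf y = 5 → EvI y → x * y = y * x → EvI x)
    (t4 : ∀ N : Subgroup MG, 3 ^ 4 ∣ Nat.card N → ∃ y ∈ N, orderOf y = 3 ∧ EvI y)
    (n76 : ∀ x : MG, orderOf x = 7 → ¬ EvI x → ¬ 7 ^ 6 ∣ Nat.card ↥(centralizer ({x} : Set MG)))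
    {x : MG} (hx : orderOf x = 7) (hno : ¬ EvI x) :
    Nat.card ↥(centralizer ({x} : Set MG)) ≤ 12000000 := by
  have hfin : Finite MG := BpSpor.MBigModel.finite
  have hno' : NoInv x := hno
  set n := Nat.card ↥(centralizer ({x} : Set MG)) with hn
  have hn0 : n ≠ 0 := Nat.card_pos.ne'
  have h0 : n ∣ _ := (card_subgroup_dvd_card (centralizer ({x} : Set MG))).trans card_M'.dvd
  have h1 := dvd_of_not_dvd Nat.prime_two (odd_of hno') h0
  have h2 := dvd_of_not_dvd (by norm_num) (no_of (r := 17) (by norm_num) fun y hy hxy =>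
    hno (seventeen c17 hx hy hxy)) h1
  have h3 := dvd_of_not_dvd (by norm_num) (no_comm (by norm_num) (by norm_num) X.nineteen hx) h2
  have h4 := dvd_of_not_dvd (by norm_num) (no_comm (by norm_num) (by norm_num) X.twentythree hx) h3
  have h5 := dvd_of_not_dvd (by norm_num) (no_of' (by norm_num) c29 hx) h4
  have h6 := dvd_of_not_dvd (by norm_num) (no_comm (by norm_num) (by norm_num) X.thirtyone hx) h5
  have h7 := dvd_of_not_dvd (by norm_num) (no_comm (by norm_num) (by norm_num) X.fortyone hx) h6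
  have h8 := dvd_of_not_dvd (by norm_num) (H199.AbMon.seven_not_dvd (r := 47) (by simp) hx) h7
  have h9 := dvd_of_not_dvd (by norm_num) (H199.AbMon.seven_not_dvd (r := 59) (by simp) hx) h8
  have h10 := dvd_of_not_dvd (by norm_num) (no_comm (by norm_num) (by norm_num) X.seventyone hx) h9
  have h11 := dvd_of_not_pow (k := 3) Nat.prime_three hn0 (fun h => by
    obtain ⟨y, hyN, hy, he⟩ := t4 _ h
    exact hno (i3 x y hx hy he (mem_centralizer_singleton_iff.1 hyN).symm)) h10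
  have h12 : n ∣ 13 ^ 3 * (11 ^ 2 * (3 ^ 3 * (5 ^ 9 * 7 ^ 6))) := h11.trans (by norm_num)
  have h13 := dvd_of_not_dvd (by norm_num) (no_of' (by norm_num) c13 hx) h12
  have h14 := dvd_of_not_dvd (by norm_num) (no_comm (by norm_num) (by norm_num) c11 hx) h13
  have h15 : n ∣ 5 ^ 9 * (3 ^ 3 * 7 ^ 6) := h14.trans (by norm_num)
  have h16 := dvd_of_not_pow (k := 2) (by norm_num) hn0 (fun h => by
    obtain ⟨e, heN, he, hei⟩ := exists_in h
    exact hno (i5 x e hx he hei (mem_centralizer_singleton_iff.1 heN).symm)) h15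
  have h17 : n ∣ 7 ^ 6 * (5 ^ 2 * 3 ^ 3) := h16.trans (by norm_num)
  have h18 := dvd_of_not_pow (k := 5) (by norm_num) hn0 (n76 x hx hno) h17
  exact (Nat.le_of_dvd (by norm_num) h18).trans (by norm_num)

end Cfsg.Agent.H349.RM
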