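import Cfsg.Agent.H349.RM.Row
import Cfsg.Agent.H555.MG.Kill
import Cfsg.Agent.H555.MG.He7
import Cfsg.Agent.H711.RM.NSeven
import Cfsg.Agent.H711.RM.SevenFree
import Cfsg.Agent.H497.MG.Five
import Cfsg.Agent.H716.RM.Big
import Cfsg.Agent.H716.RM.IThree
import Cfsg.Agent.H555.MG.T4

/-!
# S3509, row M (helper349)

* **`rc_M`** : `RC` of the Monster.
-/

set_option autoImplicit false
open Cfsg

namespace Cfsg.Agent.H349.RM

open MulAction Subgroup Cfsg.Agent.H106.RC Cfsg.Agent.H873.RG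
open Cfsg.Agent.BpSpor.MBigModel (MG)
open Cfsg.Agent.H940.Eng (Base)

theorem kill : Kill :=
  H555.MG.kill_of (fun _ hx he => H497.MG.tc_five hx (H497.MG.ev_of_inv5 hx he))
    (fun _ hx he => H711.RM.tc_seven hx (H711.RM.ev_of_inv7 hx he))

/-- **`RC` of the Monster** -/
theorem rc_M (B : Base) {T : Type} [Group T] [Finite T] (h : Spor.IsoM T) (hIH : IHx (Nat.card T)) : RC T :=
  rc_M_of B (fun _ _ hx hy he h => by
      rcases hx with hx | hx
      · exact H716.RM.i3 (Or.inl rfl) hx hy he h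
      · exact H716.RM.i3 (Or.inr rfl) hx hy he h)
    (fun _ _ hx hy he h => H497.MG.i5 (Or.inr (Or.inl rfl)) hx hy he h)
    (fun _ _ hx hy he h => H711.RM.i7 (Or.inr rfl) hx hy he h)
    (fun _ h => H555.MG.t4 h) (fun _ h => H555.MG.t7 h)
    (fun _ hx he => H711.RM.n76_of (fun hw hN hx h => H555.MG.he7 hw hN hx h) hx he)
    (fun _ _ hp h hx => (H716.RM.big B hp h hx).1)
    (fun _ _ _ _ hp hq h h' hx hy hxy => H716.RM.big1 B hp hq h h' hx hy hxy) kill h hIH

end Cfsg.Agent.H349.RM
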