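import Cfsg.Agent.H349.RM.Num
import Cfsg.Agent.H555.MG.Even

/-!
# S3509, row M: assembly (helper349)

* `main` : `RC` of the Monster from `n5`, `n7`, `big`, `big1` and `kill` : a cover by commuting elements of different
  prime orders has no member of order 5 or 7 commuting with an involution.
-/

set_option autoImplicit false
open Cfsg

namespace Cfsg.Agent.H349.RM

open MulAction Subgroup Cfsg.Agent.H106.RC Cfsg.Agent.H345.RG Cfsg.Agent.H514.DP Cfsg.Agent.H873.RG
open Cfsg.Agent.BpSpor.MBigModel (MG)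

/-- no cover has a member of order 5 or 7 commuting with an involution -/
def Kill : Prop := ∀ (Ω ι : Type) [Finite Ω] [Nonempty Ω] [MulAction MG Ω] [Finite ι], IHx (Nat.card MG) →
  Env MG Ω (⊤ : Subgroup MG) → ∀ (x : ι → MG) (r : ι → ℕ), PF x r → Cov Ω x → ∀ i, (r i = 5 ∨ r i = 7) →
    EvI (x i) → False

/-- **`RC` of the Monster** -/
theorem main (hd : MinDeg MG 196883) (hcg : ∀ x : MG, x ≠ 1 → H147.Gen.CG 10 x)
    (n5 : ∀ x : MG, orderOf x = 5 → ¬ EvI x → Nat.card ↥(centralizer ({x} : Set MG)) ≤ 520000000)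
    (n7 : ∀ x : MG, orderOf x = 7 → ¬ EvI x → Nat.card ↥(centralizer ({x} : Set MG)) ≤ 12000000)
    (big : ∀ (p : ℕ) (x : MG), p.Prime → 11 ≤ p → orderOf x = p → Nat.card ↥(centralizer ({x} : Set MG)) ≤ 1045440)
    (big1 : ∀ (p q : ℕ) (x y : MG), p.Prime → q.Prime → 11 ≤ p → 11 ≤ q → orderOf x = p → orderOf y = q →
      x * y = y * x → p = q) (kill : Kill)
    {S : Type} [Group S] [Finite S] (hS : Spor.IsoM S) (hIH : IHx (Nat.card S)) : RC S := by
  refine H555.MG.row_of (fun hI Ω _ _ _ hE ι _ x r hx hc _ => ?_) hS hIH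
  by_cases h2 : ∃ i, r i = 2
  · obtain ⟨i, hi⟩ := h2
    have h3 : orderOf (x i) = 2 := by
      rw [← hi]
      have := Fact.mk (hx.prime i)
      exact orderOf_eq_prime (hx.pow i) (hx.ne i)
    exact H555.MG.even_dead hI hE hx hc h3 (fun j => hx.comm j i) fun j hj => by
      rw [hx.inj (hj.trans hi.symm)]
  · push Not at h2
    exact no_cov hd hcg n5 n7 big big1 hE hx hc h2
      (fun i hi he => kill Ω ι hI hE x r hx hc i (Or.inl hi) he)
      (fun i hi he => kill Ω ι hI hE x r hx hc i (Or.inr hi) he)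

end Cfsg.Agent.H349.RM
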