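import Cfsg.Agent.H349.RM.Main
import Cfsg.Agent.H349.RM.Cent
import Cfsg.Agent.H8.Mon.Final
import Cfsg.Agent.H461.RM.M
import Cfsg.Agent.H657.M13.Card
import Cfsg.Agent.H626.LD.TwentyNine
import Cfsg.Agent.H847.MonDeg
import Cfsg.Agent.H121.Chr
import Cfsg.Agent.H861.Gen.Mon

/-!
# S3509, row M: the exact centralizers plugged in (helper349)

* `rc_M_of` : `RC` of the Monster from the boxes `i3`, `i5`, `i7`, `t4`, `t7`, `n76`, `big`, `big1`, `kill`.
-/

set_option autoImplicit false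
open Cfsg

namespace Cfsg.Agent.H349.RM

open MulAction Subgroup Cfsg.Agent.H106.RC Cfsg.Agent.H514.DP Cfsg.Agent.H873.RG
open Cfsg.Agent.BpSpor.MBigModel (MG)
open Cfsg.Agent.H940.Eng (Base)

theorem minDeg_mg : MinDeg MG 196883 := fun k ρ hρ hk => by
  have h := H847.MonDeg.bound_model (V := Fin k → ℂ) ρ (H121.Chr.exists_ne_one ρ hρ hk)
  simpa using h

/-- **`RC` of the Monster from the boxes** -/
theorem rc_M_of (B : Base)
    (i3 : ∀ x y : MG, (orderOf x = 5 ∨ orderOf x = 7) → orderOf y = 3 → EvI y → x * y = y * x → EvI x)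
    (i5 : ∀ x y : MG, orderOf x = 7 → orderOf y = 5 → EvI y → x * y = y * x → EvI x)
    (i7 : ∀ x y : MG, orderOf x = 5 → orderOf y = 7 → EvI y → x * y = y * x → EvI x)
    (t4 : ∀ N : Subgroup MG, 3 ^ 4 ∣ Nat.card N → ∃ y ∈ N, orderOf y = 3 ∧ EvI y)
    (t7 : ∀ N : Subgroup MG, 7 ^ 3 ∣ Nat.card N → ∃ y ∈ N, orderOf y = 7 ∧ EvI y)
    (n76 : ∀ x : MG, orderOf x = 7 → ¬ EvI x → ¬ 7 ^ 6 ∣ Nat.card ↥(centralizer ({x} : Set MG)))
    (big : ∀ (p : ℕ) (x : MG), p.Prime → 11 ≤ p → orderOf x = p → Nat.card ↥(centralizer ({x} : Set MG)) ≤ 1045440)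
    (big1 : ∀ (p q : ℕ) (x y : MG), p.Prime → q.Prime → 11 ≤ p → 11 ≤ q → orderOf x = p → orderOf y = q →
      x * y = y * x → p = q) (kill : Kill)
    {S : Type} [Group S] [Finite S] (hS : Spor.IsoM S) (hIH : IHx (Nat.card S)) : RC S := by
  have X := H8.Mon.exact B
  have c11 : ∀ y : MG, orderOf y = 11 → Nat.card ↥(centralizer ({y} : Set MG)) = 11 * 95040 :=
    fun y hy => H461.RM.Mon.card_cent hy
  have c13 : ∀ y : MG, orderOf y = 13 → ¬ 5 ∣ Nat.card ↥(centralizer ({y} : Set MG)) ∧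
      ¬ 7 ∣ Nat.card ↥(centralizer ({y} : Set MG)) := by
    intro y hy
    rcases H657.M13.card_cent13 hy with h | h <;> rw [h] <;> norm_num
  have c17 : ∀ y : MG, orderOf y = 17 → Nat.card ↥(centralizer ({y} : Set MG)) = 168 * 17 :=
    fun y hy => H715.Mon.Exact.card17 (H715.Mon.Grp.sThree B) hy
  have c29 : ∀ y : MG, orderOf y = 29 → ¬ 7 ∣ Nat.card ↥(centralizer ({y} : Set MG)) := by
    intro y hy
    rw [H626.LD.TwentyNine.card_cent hy]
    norm_num
  refine main minDeg_mg (fun x hx => H861.Gen.Mon.cg B hx) (fun x hx hno => ?_) (fun x hx hno => ?_) big big1 kill hS hIH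
  · exact n5 X c11 (fun y hy => (c13 y hy).1) (fun x y hx => i3 x y (Or.inl hx)) i7 t4 t7 hx hno
  · exact n7 X c11 (fun y hy => (c13 y hy).2) c17 c29 (fun x y hx => i3 x y (Or.inr hx)) i5 t4 n76 hx hno

end Cfsg.Agent.H349.RM
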